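import Groth.Agent.SGAUnipP20.Step
import Groth.Agent.AGF27.Unip.Main
import Groth.Agent.ComodLib.Rosenlicht
import Groth.Agent.ComodLib.Push

/-!
Over an algebraically closed field of characteristic `p` a connected group without `μ_p` is unipotent.
-/

universe u

open TensorProduct WithConv

namespace Groth.Agent.SGAUnipP20

variable {k : Type u} [Field k] [IsAlgClosed k] (p : ℕ) [Fact p.Prime] [CharP k p]

/-- A torus gives a `μ_p`. -/
theorem exists_mu_of_torus {A : Type u} [CommRing A] [HopfAlgebra k A]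
    (ψ : A →ₐc[k] MonoidAlgebra k AGF27.Unip.Z1) (hψ : Function.Surjective ψ) :
    ∃ φ : A →ₐc[k] MonoidAlgebra k (Multiplicative (ZMod p)), Function.Surjective φ := by
  let f : AGF27.Unip.Z1 →* Multiplicative (ZMod p) :=
    AddMonoidHom.toMultiplicative ((Int.castAddHom (ZMod p)).comp (Pi.evalAddMonoidHom (fun _ : Fin 1 => ℤ) 0))
  have hf : Function.Surjective f := fun z => by
    obtain ⟨n, hn⟩ := ZMod.intCast_surjective z.toAdd
    exact ⟨Multiplicative.ofAdd fun _ => n, by simp [f, hn]⟩
  refine ⟨(MonoidAlgebra.mapDomainBialgHom k f).comp ψ, fun y => ?_⟩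
  suffices h : y ∈ Set.range (MonoidAlgebra.mapDomainBialgHom k f) by
    obtain ⟨x, hx⟩ := h
    obtain ⟨a, rfl⟩ := hψ x
    exact ⟨a, hx⟩
  induction y using MonoidAlgebra.induction_linear with
  | zero => exact ⟨0, map_zero _⟩
  | add a b ha hb =>
    obtain ⟨a, rfl⟩ := ha
    obtain ⟨b, rfl⟩ := hb
    exact ⟨a + b, map_add _ _ _⟩
  | single g r =>
    obtain ⟨g, rfl⟩ := hf g
    exact ⟨MonoidAlgebra.single g r, by simp [MonoidAlgebra.mapDomainBialgHom]⟩

/-- The reduced case. -/
theorem isUnipotent_of_reduced {A : Type u} [CommRing A] [HopfAlgebra k A] [Algebra.FiniteType k A]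
    [_root_.IsReduced A] (hconn : ∀ e : A, IsIdempotentElem e → e = 0 ∨ e = 1)
    (hmu : ¬ ∃ φ : A →ₐc[k] MonoidAlgebra k (Multiplicative (ZMod p)), Function.Surjective φ) :
    HopfRep.IsUnipotent k A := by
  haveI := ComodLib.isDomain_of_connected k hconn
  exact AGF27.Unip.isUnipotent_of_no_torus fun ψ hψ => hmu (exists_mu_of_torus p ψ hψ)

/-- A connected group without `μ_p` over an algebraically closed field is unipotent. -/
theorem isUnipotent_of_no_mu {A : Type u} [CommRing A] [HopfAlgebra k A] [Algebra.FiniteType k A]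
    (hconn : ∀ e : A, IsIdempotentElem e → e = 0 ∨ e = 1)
    (hmu : ¬ ∃ φ : A →ₐc[k] MonoidAlgebra k (Multiplicative (ZMod p)), Function.Surjective φ) :
    HopfRep.IsUnipotent k A := by
  classical
  have hp : p.Prime := Fact.out
  haveI : Nontrivial A := (Bialgebra.counitAlgHom k A).toRingHom.domain_nontrivial
  haveI : CharP A p := charP_of_algebra (k := k) p
  haveI : IsNoetherianRing A := Algebra.FiniteType.isNoetherianRing k A
  let N : ℕ → Ideal A := frobKer A p
  haveI hNH : ∀ j, (N j).IsHopfIdeal k := fun j => isHopfIdeal_frobKer p j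
  have hmono : Monotone N := by
    refine monotone_nat_of_le_succ fun j a ha => ?_
    rw [mem_frobKer] at ha ⊢
    rw [pow_succ, pow_mul, ha, zero_pow hp.ne_zero]
  obtain ⟨M, hM⟩ := monotone_stabilizes_iff_noetherian.mpr inferInstance ⟨N, hmono⟩
  have hnt : ∀ j, Nontrivial (A ⧸ N j) := fun j =>
    (Bialgebra.counitAlgHom k (A ⧸ N j)).toRingHom.domain_nontrivial
  have hC : ∀ j, CharP (A ⧸ N j) p := fun j => by
    haveI := hnt j
    exact charP_of_algebra (k := k) p
  have hft : ∀ j, Algebra.FiniteType k (A ⧸ N j) := fun j =>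
    Algebra.FiniteType.of_surjective (Ideal.Quotient.mkₐ k (N j)) Ideal.Quotient.mk_surjective
  have hconnj : ∀ j, ∀ e : A ⧸ N j, IsIdempotentElem e → e = 0 ∨ e = 1 := by
    intro j e he
    obtain ⟨a, rfl⟩ := Ideal.Quotient.mk_surjective e
    have hz : (a * a - a) ^ p ^ j = 0 := by
      rw [← mem_frobKer p, ← Ideal.Quotient.eq_zero_iff_mem, map_sub, map_mul, he.eq, sub_self]
    rw [sub_pow_char_pow (p := p), mul_pow, sub_eq_zero] at hz
    have he' : Ideal.Quotient.mk (N j) (a ^ p ^ j) = Ideal.Quotient.mk (N j) a := by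
      rw [map_pow]
      exact he.pow_eq (pow_ne_zero _ hp.ne_zero)
    rcases hconn _ hz with h | h <;> rw [h] at he'
    · exact Or.inl (he'.symm.trans (map_zero _))
    · exact Or.inr (he'.symm.trans (map_one _))
  have hmuj : ∀ j, ¬ ∃ φ : (A ⧸ N j) →ₐc[k] MonoidAlgebra k (Multiplicative (ZMod p)), Function.Surjective φ :=
    fun j ⟨φ, hφ⟩ => hmu ⟨φ.comp (Bialgebra.Quotient.mkBialgHom (R := k) (N j)),
      hφ.comp Ideal.Quotient.mk_surjective⟩
  have main : ∀ i j, j + i = M → HopfRep.IsUnipotent k (A ⧸ N j) := by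
    intro i
    induction i with
    | zero =>
      intro j hj
      haveI := hft j
      haveI := hC j
      haveI : _root_.IsReduced (A ⧸ N j) := (isReduced_iff_pow_one_lt p hp.one_lt).mpr fun x hx => by
        obtain ⟨a, rfl⟩ := Ideal.Quotient.mk_surjective x
        rw [← map_pow, Ideal.Quotient.eq_zero_iff_mem, mem_frobKer, ← pow_mul, ← pow_succ'] at hx
        rw [Ideal.Quotient.eq_zero_iff_mem]
        have h1 : a ∈ N (j + 1) := (mem_frobKer p).mpr hx
        exact (hM (j + 1) (by omega)).symm.trans (hM j (by omega)) |>.le h1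
      exact isUnipotent_of_reduced p (hconnj j) (hmuj j)
    | succ i ih =>
      intro j hj
      haveI := hft j
      haveI := hC j
      have hle : N j ≤ N (j + 1) := hmono (Nat.le_succ j)
      let π : (A ⧸ N j) →ₐc[k] (A ⧸ N (j + 1)) :=
        BialgHom.ofAlgHom (Ideal.Quotient.factorₐ k hle)
          (by refine Ideal.Quotient.algHom_ext k ?_; ext a; rfl)
          (by
            refine Ideal.Quotient.algHom_ext k (AlgHom.ext fun a => ?_)
            show Algebra.TensorProduct.map (Ideal.Quotient.factorₐ k hle) (Ideal.Quotient.factorₐ k hle)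
                (Coalgebra.comul (R := k) (Bialgebra.Quotient.mkBialgHom (R := k) (N j) a)) =
              Coalgebra.comul (R := k) (Bialgebra.Quotient.mkBialgHom (R := k) (N (j + 1)) a)
            rw [← CoalgHomClass.map_comp_comul_apply, ← CoalgHomClass.map_comp_comul_apply]
            induction Coalgebra.comul (R := k) a using TensorProduct.induction_on with
            | zero => simp
            | tmul x y => rfl
            | add x y hx hy => simp only [map_add, hx, hy])
      refine isUnipotent_of_frobenius p (fun y hy => isNilpotent_of_no_mu p (hmuj j) hy) π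
        (Ideal.Quotient.factor_surjective hle) (fun x => ?_) (ih (j + 1) (by omega))
      obtain ⟨a, rfl⟩ := Ideal.Quotient.mk_surjective x
      show Ideal.Quotient.mk (N (j + 1)) a = 0 ↔ _
      rw [← map_pow, Ideal.Quotient.eq_zero_iff_mem, Ideal.Quotient.eq_zero_iff_mem, mem_frobKer, mem_frobKer,
        ← pow_mul, pow_succ']
  have h0 : N 0 = ⊥ := by
    ext a
    rw [mem_frobKer, pow_zero, pow_one, Ideal.mem_bot]
  intro V _ _ cV hfin hnt' hbot
  let cQ : HopfRep.Comod k (A ⧸ N 0) V :=
    ComodLib.pushComod ((Bialgebra.Quotient.mkBialgHom (R := k) (N 0) : A →ₗc[k] A ⧸ N 0)) cV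
  obtain ⟨v, hv, hv0⟩ := Submodule.exists_mem_ne_zero_of_ne_bot (@main M 0 (Nat.zero_add M) V _ _ cQ hfin hnt')
  refine hv0 ?_
  have hinj : Function.Injective (Ideal.Quotient.mkₐ k (N 0)).toLinearMap := by
    intro a b hab
    have h := Ideal.Quotient.eq.mp hab
    rwa [h0, Ideal.mem_bot, sub_eq_zero] at h
  have hmem : v ∈ HopfRep.fixedPts k A V := by
    refine Module.Flat.lTensor_preserves_injective_linearMap _ hinj ?_
    rw [LinearMap.lTensor_tmul]
    show _ = v ⊗ₜ[k] Ideal.Quotient.mkₐ k (N 0) 1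
    rw [map_one]
    exact hv
  rwa [hbot, Submodule.mem_bot] at hmem

end Groth.Agent.SGAUnipP20
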