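import Mathlib.RingTheory.HopfAlgebra.Quotient
import Mathlib.RingTheory.Bialgebra.Quotient
import Mathlib.FieldTheory.IsAlgClosed.Basic
import Mathlib.Algebra.CharP.Lemmas
import Mathlib.Algebra.CharP.Algebra
import Mathlib.LinearAlgebra.Dual.Lemmas

/-!
The kernels of the iterated Frobenius of a Hopf algebra over an algebraically closed field are Hopf ideals.
-/

universe u

open TensorProduct

namespace Groth.Agent.SGAUnipP20

variable {k : Type u} [Field k] {A : Type u} [CommRing A] [Algebra k A] (p : ℕ) [Fact p.Prime] [CharP k p]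

include k in
theorem charP_of_algebra [Nontrivial A] : CharP A p :=
  charP_of_injective_algebraMap (algebraMap k A).injective p

/-- If the `q`-th power of a tensor vanishes, so does its image modulo the kernel of the `q`-th power. -/
theorem map_eq_zero_of_pow [IsAlgClosed k] [CharP A p] {C : Type u} [CommRing C] [Algebra k C] [Nontrivial (A ⊗[k] A)]
    (π : A →ₐ[k] C) (hπ : Function.Surjective π) (j : ℕ) (hker : ∀ a, π a = 0 ↔ a ^ p ^ j = 0)
    {z : A ⊗[k] A} (hz : z ^ p ^ j = 0) : Algebra.TensorProduct.map π π z = 0 := by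
  classical
  haveI : CharP (A ⊗[k] A) p := charP_of_algebra (k := k) p
  set q := p ^ j with hq
  have hq0 : q ≠ 0 := pow_ne_zero _ (Fact.out : p.Prime).ne_zero
  let b := Module.Free.chooseBasis k C
  choose e he using hπ
  let c := TensorProduct.equivFinsuppOfBasisLeft b (Algebra.TensorProduct.map π π z) (N := C)
  let z' : A ⊗[k] A := c.sum fun i y => e (b i) ⊗ₜ[k] e y
  have hz' : Algebra.TensorProduct.map π π z' = Algebra.TensorProduct.map π π z := by
    conv_rhs => rw [← (TensorProduct.equivFinsuppOfBasisLeft b).symm_apply_apply (Algebra.TensorProduct.map π π z),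
      TensorProduct.equivFinsuppOfBasisLeft_symm_apply]
    simp only [z', c, Finsupp.sum, map_sum, Algebra.TensorProduct.map_tmul, he]
  have hmem : z - z' ∈ LinearMap.ker (TensorProduct.map π.toLinearMap π.toLinearMap) := by
    rw [LinearMap.mem_ker, map_sub, sub_eq_zero]
    exact hz'.symm
  rw [TensorProduct.map_ker (LinearMap.exact_subtype_ker_map π.toLinearMap) (fun y => ⟨e y, he y⟩)
    (LinearMap.exact_subtype_ker_map π.toLinearMap) (fun y => ⟨e y, he y⟩)] at hmem
  have hkill : (z - z') ^ q = 0 := by
    obtain ⟨_, ⟨s, rfl⟩, _, ⟨t, rfl⟩, hst⟩ := Submodule.mem_sup.mp hmem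
    rw [← hst, add_pow_char_pow (p := p)]
    have h1 : ∀ s, (LinearMap.lTensor A (LinearMap.ker π.toLinearMap).subtype s) ^ q = (0 : A ⊗[k] A) := by
      intro s
      induction s using TensorProduct.induction_on with
      | zero => simp [zero_pow hq0]
      | tmul a n =>
        rw [LinearMap.lTensor_tmul, Algebra.TensorProduct.tmul_pow, show ((LinearMap.ker π.toLinearMap).subtype n : A) ^ q = 0
          from (hker _).mp n.2, TensorProduct.tmul_zero]
      | add s t hs ht => rw [map_add, add_pow_char_pow (p := p), hs, ht, add_zero]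
    have h2 : ∀ t, (LinearMap.rTensor A (LinearMap.ker π.toLinearMap).subtype t) ^ q = (0 : A ⊗[k] A) := by
      intro t
      induction t using TensorProduct.induction_on with
      | zero => simp [zero_pow hq0]
      | tmul n a =>
        rw [LinearMap.rTensor_tmul, Algebra.TensorProduct.tmul_pow, show ((LinearMap.ker π.toLinearMap).subtype n : A) ^ q = 0
          from (hker _).mp n.2, TensorProduct.zero_tmul]
      | add s t hs ht => rw [map_add, add_pow_char_pow (p := p), hs, ht, add_zero]
    rw [h1, h2, add_zero]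
  have hzero : ∑ i ∈ c.support, (e (b i) ^ q) ⊗ₜ[k] (e (c i) ^ q) = 0 := by
    rw [sub_pow_char_pow (p := p), hz, zero_sub, neg_eq_zero] at hkill
    rw [← hkill]
    simp only [z', Finsupp.sum, hq]
    rw [sum_pow_char_pow]
    simp only [Algebra.TensorProduct.tmul_pow]
  suffices hc : c = 0 by
    apply (TensorProduct.equivFinsuppOfBasisLeft b).injective
    rw [map_zero]
    exact hc
  ext i
  by_cases hi : i ∈ c.support
  swap
  · simpa using hi
  have hψ : ∀ ψ : A →ₗ[k] k, ψ (e (c i) ^ q) = 0 := by
    intro ψ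
    have h := congrArg (fun w => TensorProduct.rid k A (ψ.lTensor A w)) hzero
    simp only [map_sum, LinearMap.lTensor_tmul, TensorProduct.rid_tmul, map_zero] at h
    choose r hr using fun l => IsAlgClosed.exists_pow_nat_eq (ψ (e (c l) ^ q)) (Nat.pos_of_ne_zero hq0)
    have hs : (∑ l ∈ c.support, r l • e (b l)) ^ q = 0 := by
      rw [← h, hq, sum_pow_char_pow]
      refine Finset.sum_congr rfl fun l _ => ?_
      rw [smul_pow, hr]
    have h2 := (hker _).mpr hs
    simp only [map_sum, map_smul, he] at h2
    rw [← hr i, linearIndependent_iff'.mp b.linearIndependent _ _ h2 i hi, zero_pow hq0]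
  have h3 : e (c i) ^ q = 0 := (Module.forall_dual_apply_eq_zero_iff k _).mp hψ
  rw [Finsupp.coe_zero, Pi.zero_apply, ← he (c i)]
  exact (hker _).mpr h3

section Hopf

variable (k A) [CharP A p]

/-- The kernel of the `j`-th iterate of the Frobenius. -/
def frobKer (j : ℕ) : Ideal A := RingHom.ker (iterateFrobenius A p j)

variable {k A}

theorem mem_frobKer {j : ℕ} {a : A} : a ∈ frobKer A p j ↔ a ^ p ^ j = 0 := by
  rw [frobKer, RingHom.mem_ker, iterateFrobenius_def]

end Hopf

variable {H : Type u} [CommRing H] [HopfAlgebra k H] [IsAlgClosed k] [CharP H p]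

theorem antipode_pow (a : H) : ∀ n : ℕ, HopfAlgebra.antipode k (a ^ n) = HopfAlgebra.antipode k a ^ n
  | 0 => by simp
  | n + 1 => by rw [pow_succ, HopfAlgebra.antipode_mul, antipode_pow a n, pow_succ, mul_comm]

instance isHopfIdeal_frobKer (j : ℕ) : (frobKer H p j).IsHopfIdeal k where
  counit_eq_zero x hx := by
    have hx' : x ^ p ^ j = 0 := (mem_frobKer p).mp hx
    have h := congrArg (Bialgebra.counitAlgHom k H) hx'
    rw [map_pow, map_zero] at h
    exact eq_zero_of_pow_eq_zero h
  map_mkQ_comul_eq_zero x hx := by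
    have hx' : x ^ p ^ j = 0 := (mem_frobKer p).mp hx
    haveI : Nontrivial (H ⊗[k] H) :=
      (Algebra.TensorProduct.lift (Bialgebra.counitAlgHom k H) (Bialgebra.counitAlgHom k H)
        fun _ _ => Commute.all _ _).toRingHom.domain_nontrivial
    have h := map_eq_zero_of_pow p (Ideal.Quotient.mkₐ k (frobKer H p j)) Ideal.Quotient.mk_surjective j
      (fun a => by rw [Ideal.Quotient.mkₐ_eq_mk, Ideal.Quotient.eq_zero_iff_mem, mem_frobKer])
      (z := Coalgebra.comul (R := k) x) (by rw [← Bialgebra.comulAlgHom_apply (R := k), ← map_pow, hx', map_zero])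
    exact h
  antipode_mem x hx := by
    have hx' : x ^ p ^ j = 0 := (mem_frobKer p).mp hx
    rw [mem_frobKer, ← antipode_pow, hx', map_zero]

end Groth.Agent.SGAUnipP20
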