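import Groth.Agent.ComodLib.GradedAug
import Groth.Agent.ComodLib.LieKill
import Groth.Agent.ComodLib.Orbits
import Mathlib.FieldTheory.Perfect
import Mathlib.FieldTheory.Finite.Basic

/-!
In characteristic `p` the functions killed by all invariant derivations are the `p`-th powers.
-/

universe u

open TensorProduct WithConv MvPolynomial

namespace Groth.Agent.SGAUnipP20

open Groth.Agent.ComodLib

attribute [local instance] RingHom.ker_isPrime

variable (k : Type u) [Field k] [IsAlgClosed k] (A : Type u) [CommRing A] [Algebra k A]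
  (p : ℕ) [Fact p.Prime] [CharP k p]

/-- The subalgebra of `p`-th powers. -/
def pPow [CharP A p] : Subalgebra k A where
  carrier := {x | ∃ y : A, y ^ p = x}
  mul_mem' := by rintro _ _ ⟨x, rfl⟩ ⟨y, rfl⟩; exact ⟨x * y, mul_pow _ _ _⟩
  one_mem' := ⟨1, one_pow _⟩
  add_mem' := by rintro _ _ ⟨x, rfl⟩ ⟨y, rfl⟩; exact ⟨x + y, add_pow_char x y p⟩
  zero_mem' := ⟨0, zero_pow (Fact.out : p.Prime).ne_zero⟩
  algebraMap_mem' c := by
    obtain ⟨d, hd⟩ := IsAlgClosed.exists_pow_nat_eq c (Fact.out : p.Prime).pos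
    exact ⟨algebraMap k A d, by rw [← map_pow, hd]⟩

variable {k A} [CharP A p]

theorem mem_pPow {x : A} : x ∈ pPow k A p ↔ ∃ y : A, y ^ p = x := Iff.rfl

variable [Algebra.FiniteType k A]

/-- An element which is a `p`-th power to every order at every point is a `p`-th power. -/
theorem mem_pPow_of_forall (a : A)
    (h : ∀ (g : A →ₐ[k] k) (n : ℕ), ∃ c ∈ pPow k A p, a - c ∈ RingHom.ker g ^ n) : a ∈ pPow k A p := by
  classical
  haveI : IsNoetherianRing A := Algebra.FiniteType.isNoetherianRing k A
  have hp : p.Prime := Fact.out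
  let B := pPow k A p
  haveI : IsNoetherianRing B := by
    let F : A →+* B := (frobenius A p).codRestrict B fun x => ⟨x, rfl⟩
    exact isNoetherianRing_of_surjective A B F fun ⟨_, y, hy⟩ => ⟨y, Subtype.ext hy⟩
  haveI : Algebra.IsIntegral B A := ⟨fun x => ⟨Polynomial.X ^ p - Polynomial.C (⟨x ^ p, x, rfl⟩ : B),
    Polynomial.monic_X_pow_sub_C _ hp.ne_zero, by simp⟩⟩
  haveI : Algebra.FiniteType B A := Algebra.FiniteType.of_restrictScalars_finiteType k B A
  haveI : Module.Finite B A := Algebra.IsIntegral.finite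
  let R : Submodule B A := Submodule.span B {(1 : A)}
  suffices hQ : R.mkQ a = 0 by
    obtain ⟨b, hb⟩ := Submodule.mem_span_singleton.mp ((Submodule.Quotient.mk_eq_zero R).mp hQ)
    rw [← hb, Algebra.smul_def, mul_one]
    exact b.2
  set q := R.mkQ a with hq
  by_contra hne
  have hann : (Submodule.span B {q}).annihilator ≠ ⊤ := by
    rw [Ne, Submodule.annihilator_eq_top_iff, Submodule.span_singleton_eq_bot]
    exact hne
  obtain ⟨P, hP, hle⟩ := Ideal.exists_le_maximal _ hann
  haveI := hP
  obtain ⟨m, hm, hmP⟩ := Ideal.exists_ideal_over_prime_of_isIntegral (S := A) P ⊥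
    (by
      intro x hx
      have : algebraMap B A x = 0 := hx
      rw [show x = 0 from Subtype.ext this]
      exact zero_mem _)
  have hmtop : m ≠ ⊤ := hmP.1.ne_top
  obtain ⟨g, hg⟩ := exists_point (k := k) m hmtop
  have hPg : P = (RingHom.ker g).comap (algebraMap B A) := by
    refine hP.eq_of_le (Ideal.comap_ne_top _ (RingHom.ker_ne_top g)) ?_
    rw [← hmP.2]
    exact Ideal.comap_mono hg
  have hrad : RingHom.ker g ≤ (P.map (algebraMap B A)).radical := by
    intro y hy
    refine ⟨p, ?_⟩
    have h1 : (⟨y ^ p, y, rfl⟩ : B) ∈ P := by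
      rw [hPg]
      show y ^ p ∈ RingHom.ker g
      exact Ideal.pow_mem_of_mem _ hy _ hp.pos
    exact Ideal.mem_map_of_mem (algebraMap B A) h1
  obtain ⟨N, hN⟩ := Ideal.exists_pow_le_of_le_radical_of_fg hrad (IsNoetherian.noetherian _)
  have hall : ∀ j : ℕ, q ∈ (P ^ j • ⊤ : Submodule B (A ⧸ R)) := by
    intro j
    obtain ⟨c, hc, hca⟩ := h g (N * j)
    have h1 : a - c ∈ (P ^ j).map (algebraMap B A) := by
      rw [Ideal.map_pow]
      rw [pow_mul] at hca
      exact Ideal.pow_right_mono hN j hca
    have h2 : a - c ∈ (P ^ j • ⊤ : Submodule B A) := by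
      rw [Ideal.smul_top_eq_map]
      exact h1
    have h3 := Submodule.mem_map_of_mem (f := R.mkQ) h2
    rw [Submodule.map_smul'', Submodule.map_top, Submodule.range_mkQ, map_sub] at h3
    have h4 : R.mkQ c = 0 := (Submodule.Quotient.mk_eq_zero R).mpr
      (Submodule.mem_span_singleton.mpr ⟨⟨c, hc⟩, by rw [Algebra.smul_def, mul_one]; rfl⟩)
    rwa [h4, sub_zero] at h3
  obtain ⟨r, hr⟩ := (Ideal.mem_iInf_smul_pow_eq_bot_iff P q).mp (Submodule.mem_iInf _ |>.mpr hall)
  refine hP.ne_top ((Ideal.eq_top_iff_one P).mpr ?_)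
  have hmem : (1 : B) - r ∈ P := hle (by
    rw [Submodule.mem_annihilator_span_singleton, sub_smul, one_smul, hr, sub_self])
  simpa using add_mem hmem r.2

end Groth.Agent.SGAUnipP20

namespace Groth.Agent.SGAUnipP20

open Groth.Agent.ComodLib

variable {k : Type u} [Field k] [IsAlgClosed k] {A : Type u} [CommRing A] [HopfAlgebra k A]
  [Algebra.FiniteType k A] (p : ℕ) [Fact p.Prime] [CharP k p] [CharP A p]

/-- The invariant derivations commute with translations. -/
theorem lieOp_translatePt' (L : Cartier0.Tan k A) (g : A →ₐ[k] k) (a : A) :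
    Cartier0.lieOp L (translatePt g a) = translatePt g (Cartier0.lieOp L a) := by
  rw [translatePt_eq_coefFun, translatePt_eq_coefFun]
  exact (comodHom_actF (isComodHom_coefFun g.toLinearMap) L.1 a).symm

omit [IsAlgClosed k] [CharP A p] in
/-- At the identity, the Euler operators remove all exponents prime to `p`. -/
theorem exists_reduced_poly {d : ℕ} {x : Fin d → A} {L : Fin d → Cartier0.Tan k A}
    (hx : ∀ i, x i ∈ Cartier0.aug k A) (hdual : ∀ i j, (L i).1 (x j) = if i = j then 1 else 0)
    {n : ℕ} {a : A} (ha : a ∈ Cartier0.aug k A ^ n) (hkill : ∀ i, Cartier0.lieOp (L i) a = 0)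
    {f : MvPolynomial (Fin d) k} (hf : f.IsHomogeneous n) (haf : a - aeval x f ∈ Cartier0.aug k A ^ (n + 1))
    (s : Finset (Fin d)) :
    ∃ f' : MvPolynomial (Fin d) k, f'.IsHomogeneous n ∧ a - aeval x f' ∈ Cartier0.aug k A ^ (n + 1) ∧
      ∀ e ∈ f'.support, ∀ i ∈ s, p ∣ e i := by
  classical
  have hp : p.Prime := Fact.out
  induction s using Finset.induction with
  | empty => exact ⟨f, hf, haf, by simp⟩
  | insert i s hi ih =>
    obtain ⟨f₁, hf₁, haf₁, hs⟩ := ih
    let E : A →ₗ[k] A := LinearMap.mulLeft k (x i) ∘ₗ Cartier0.lieOp (L i)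
    let Ep : MvPolynomial (Fin d) k → MvPolynomial (Fin d) k := fun g => X i * pderiv i g
    have hEap : E a = 0 := by simp [E, hkill i]
    have hEm : ∀ u ∈ Cartier0.aug k A ^ (n + 1), E u ∈ Cartier0.aug k A ^ (n + 1) := fun u hu => by
      show x i * Cartier0.lieOp (L i) u ∈ _
      rw [pow_succ']
      exact Ideal.mul_mem_mul (hx i) (GradedAug.lieOp_mem_pow (L i) n u hu)
    have hEe : ∀ (g : MvPolynomial (Fin d) k) (e : Fin d →₀ ℕ), coeff e (Ep g) = (e i : k) * coeff e g := by
      intro g e
      induction g using MvPolynomial.induction_on' with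
      | add g₁ g₂ h₁ h₂ =>
        simp only [Ep, map_add, mul_add, coeff_add] at h₁ h₂ ⊢
        rw [h₁, h₂]
      | monomial m c =>
        simp only [Ep, X_mul_pderiv_monomial, coeff_smul, coeff_monomial]
        split_ifs with h
        · subst h; simp
        · simp
    have hEph : ∀ g : MvPolynomial (Fin d) k, g.IsHomogeneous n → (Ep g).IsHomogeneous n := by
      intro g hg e he
      refine hg fun h0 => he ?_
      rw [hEe, h0, mul_zero]
    have hEg : ∀ g : MvPolynomial (Fin d) k, g.IsHomogeneous n →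
        E (aeval x g) - aeval x (Ep g) ∈ Cartier0.aug k A ^ (n + 1) := by
      intro g hg
      show x i * Cartier0.lieOp (L i) (aeval x g) - aeval x (X i * pderiv i g) ∈ _
      rw [GradedAug.lieOp_aeval, map_mul, aeval_X, ← mul_sub,
        show aeval x (pderiv i g) = ∑ l, aeval x (pderiv l g) * (if i = l then 1 else 0) by simp,
        ← Finset.sum_sub_distrib]
      simp only [← mul_sub]
      rcases Nat.eq_zero_or_pos n with rfl | hn
      · rw [pow_one]
        exact Ideal.mul_mem_right _ _ (hx i)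
      obtain ⟨m, rfl⟩ : ∃ m, n = m + 1 := ⟨n - 1, by omega⟩
      rw [pow_succ']
      refine Ideal.mul_mem_mul (hx i) (Ideal.sum_mem _ fun l _ => ?_)
      rw [pow_succ]
      refine Ideal.mul_mem_mul (GradedAug.aeval_mem_of_isHomogeneous hx (hg.pderiv)) ?_
      rw [RingHom.mem_ker, map_sub, GradedAug.counit_lieOp, hdual]
      split <;> simp
    have hiter : ∀ j : ℕ, (Ep^[j] f₁).IsHomogeneous n ∧
        (E ^ j) (aeval x f₁) - aeval x (Ep^[j] f₁) ∈ Cartier0.aug k A ^ (n + 1) := by
      intro j
      induction j with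
      | zero => exact ⟨hf₁, by simp⟩
      | succ j ih =>
        rw [Function.iterate_succ_apply', pow_succ' E j, Module.End.mul_apply]
        refine ⟨hEph _ ih.1, ?_⟩
        have h1 := hEm _ ih.2
        rw [map_sub] at h1
        have h2 := add_mem h1 (hEg _ ih.1)
        rwa [sub_add_sub_cancel] at h2
    have hcoef : ∀ (j : ℕ) e, coeff e (Ep^[j] f₁) = (e i : k) ^ j * coeff e f₁ := by
      intro j e
      induction j with
      | zero => simp
      | succ j ih => rw [Function.iterate_succ_apply', hEe, ih, pow_succ', mul_assoc]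
    obtain ⟨r, hr⟩ : ∃ r, p - 1 = r + 1 := ⟨p - 2, by have := hp.two_le; omega⟩
    have h0 : aeval x (Ep^[p - 1] f₁) ∈ Cartier0.aug k A ^ (n + 1) := by
      have hE0 : (E ^ (p - 1)) (aeval x f₁) ∈ Cartier0.aug k A ^ (n + 1) := by
        have h1 : ∀ j : ℕ, ∀ u ∈ Cartier0.aug k A ^ (n + 1), (E ^ j) u ∈ Cartier0.aug k A ^ (n + 1) := by
          intro j
          induction j with
          | zero => exact fun u hu => hu
          | succ j ih => intro u hu; rw [pow_succ' E j, Module.End.mul_apply]; exact hEm _ (ih u hu)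
        have h2 := h1 (p - 1) _ haf₁
        rw [map_sub, hr, pow_succ E r, Module.End.mul_apply, hEap, map_zero, zero_sub, neg_mem_iff] at h2
        rw [hr, pow_succ E r]
        exact h2
      have := Ideal.sub_mem _ hE0 (hiter (p - 1)).2
      rwa [sub_sub_cancel] at this
    refine ⟨f₁ - Ep^[p - 1] f₁, hf₁.sub (hiter _).1, ?_, ?_⟩
    · rw [map_sub, ← sub_add]
      exact add_mem haf₁ h0
    · intro e he j hj
      rw [mem_support_iff, coeff_sub, hcoef] at he
      have hc : coeff e f₁ ≠ 0 := fun h0 => he (by rw [h0, mul_zero, sub_zero])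
      rcases Finset.mem_insert.mp hj with rfl | hj
      · by_contra hnd
        apply he
        have hne : (e j : k) ≠ 0 := fun h0 => hnd ((CharP.cast_eq_zero_iff k p _).mp h0)
        have h1 : (e j : k) ^ (p - 1) = 1 := by
          have := congrArg (ZMod.castHom dvd_rfl k) (ZMod.pow_card_sub_one_eq_one
            (show ((e j : ℕ) : ZMod p) ≠ 0 from fun h0 => hnd ((ZMod.natCast_eq_zero_iff (e j) p).mp h0)))
          simpa using this
        rw [h1, one_mul, sub_self]
      · exact hs e (mem_support_iff.mpr hc) j hj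

/-- A function killed by the invariant derivations is a `p`-th power to every order at the identity. -/
theorem exists_pPow_sub_mem {a : A} (ha : ∀ L : Cartier0.Tan k A, Cartier0.lieOp L a = 0) (n : ℕ) :
    ∃ c ∈ pPow k A p, a - c ∈ Cartier0.aug k A ^ n := by
  classical
  have hp : p.Prime := Fact.out
  obtain ⟨d, x, L, hx, hdual, hexp⟩ := GradedAug.exists_dual_coords (k := k) (A := A)
  induction n with
  | zero => exact ⟨0, zero_mem _, by simp⟩
  | succ n ih =>
    obtain ⟨c, hc, hac⟩ := ih
    have hkill : ∀ i, Cartier0.lieOp (L i) (a - c) = 0 := by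
      intro i
      obtain ⟨y, rfl⟩ := hc
      obtain ⟨m, hm⟩ : ∃ m, p = m + 1 := ⟨p - 1, by have := hp.pos; omega⟩
      have hpow : ∀ m : ℕ, Cartier0.lieOp (L i) (y ^ (m + 1)) = (m + 1 : ℕ) * (y ^ m * Cartier0.lieOp (L i) y) := by
        intro m
        induction m with
        | zero => simp
        | succ m ih => rw [pow_succ, Cartier0.lieOp_mul, ih]; push_cast; ring
      rw [map_sub, ha, zero_sub, neg_eq_zero, hm, hpow, ← hm, CharP.cast_eq_zero, zero_mul]
    obtain ⟨f, hf, haf⟩ := GradedAug.exists_homogeneous hx hexp n (a - c) hac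
    obtain ⟨f', hf', haf', hdvd⟩ := exists_reduced_poly p hx hdual hac hkill hf haf Finset.univ
    refine ⟨c + aeval x f', add_mem hc ?_, by rw [← sub_sub]; exact haf'⟩
    rw [as_sum f', map_sum]
    refine Subalgebra.sum_mem _ fun e he => ?_
    rw [aeval_monomial]
    refine mul_mem (Subalgebra.algebraMap_mem _ _) (Subalgebra.prod_mem _ fun i _ => ?_)
    obtain ⟨t, ht⟩ := hdvd e he i (Finset.mem_univ i)
    exact ⟨x i ^ t, by rw [← pow_mul, mul_comm, ← ht]⟩

/-- A function killed by all invariant derivations is a `p`-th power. -/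
theorem mem_pPow_of_killed {a : A} (ha : ∀ L : Cartier0.Tan k A, Cartier0.lieOp L a = 0) : a ∈ pPow k A p := by
  refine mem_pPow_of_forall p a fun g n => ?_
  obtain ⟨c, hc, hac⟩ := exists_pPow_sub_mem p (a := translatePt g a)
    (fun L => by rw [lieOp_translatePt', ha, map_zero]) n
  let σ := translatePt (toConv g)⁻¹.ofConv
  have hσ : σ (translatePt g a) = a := by
    show ((translatePt (toConv g)⁻¹.ofConv).comp (translatePt g)) a = a
    rw [translatePt_comp, show toConv ((toConv g)⁻¹.ofConv) = (toConv g)⁻¹ from rfl, mul_inv_cancel]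
    exact AlgHom.congr_fun translatePt_counit a
  have hmap : Ideal.map σ (Cartier0.aug k A) ≤ RingHom.ker g := by
    refine Ideal.map_le_iff_le_comap.mpr fun u hu => ?_
    show g (σ u) = 0
    have h : g.comp σ = Bialgebra.counitAlgHom k A := by
      have h := convMul_ofConv (toConv g)⁻¹ (toConv g)
      rw [inv_mul_cancel] at h
      exact h.symm
    exact (AlgHom.congr_fun h u).trans hu
  obtain ⟨y, rfl⟩ := hc
  refine ⟨σ (y ^ p), ⟨σ y, (map_pow σ y p).symm⟩, ?_⟩
  have := Ideal.mem_map_of_mem σ hac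
  rw [map_sub, hσ, Ideal.map_pow] at this
  exact Ideal.pow_right_mono hmap n this

end Groth.Agent.SGAUnipP20
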