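import Groth.Agent.SGAUnipP20.Toral
import Groth.Agent.SGAUnipP20.Killed
import Groth.Agent.SGAUnipP20.Frob
import Groth.Agent.ComodLib.MatrixComod
import Groth.Prelude.Def_ComodSub
import Mathlib.Algebra.Lie.Engel

/-!
A group whose Lie algebra acts nilpotently is unipotent as soon as its image under Frobenius is.
-/

universe u

open TensorProduct WithConv

namespace Groth.Agent.SGAUnipP20

open Groth.Agent.ComodLib

attribute [local instance] LieRing.ofAssociativeRing

theorem commutator_mem_derSub {k A : Type u} [Field k] [CommRing A] [HopfAlgebra k A] {y z : CartDual.D k A}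
    (hy : y ∈ derSub k A) (hz : z ∈ derSub k A) : y * z - z * y ∈ derSub k A := by
  intro a b
  have key : ∀ {s t : CartDual.D k A}, s ∈ derSub k A → t ∈ derSub k A → (s * t).ofConv (a * b) =
      Coalgebra.counit (R := k) a * (s * t).ofConv b + t.ofConv b * s.ofConv a +
        (Coalgebra.counit (R := k) b * (s * t).ofConv a + t.ofConv a * s.ofConv b) := by
    intro s t hs ht
    have e : ∀ x, s.ofConv (GrpSchLib.formOp t x) = (s * t).ofConv x := fun x => by
      rw [← GrpSchLib.counit_formOp (s * t), GrpSchLib.formOp_mul, GrpSchLib.counit_formOp]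
    rw [← e (a * b), GrpSchLib.formOp_leibniz ht, map_add, hs, hs, GrpSchLib.counit_formOp, GrpSchLib.counit_formOp,
      e, e]
  rw [WithConv.ofConv_sub]
  simp only [LinearMap.sub_apply, key hy hz, key hz hy]
  ring

variable {k : Type u} [Field k] {A : Type u} [CommRing A] [HopfAlgebra k A]

/-- Engel: derivations acting nilpotently on a nonzero representation kill a common vector. -/
theorem exists_killed {V : Type u} [AddCommGroup V] [Module k V] [HopfRep.Comod k A V] [Module.Finite k V]
    [Nontrivial V] (h : ∀ y ∈ derSub k A, IsNilpotent (convAction k A V y)) :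
    ∃ v : V, v ≠ 0 ∧ ∀ y ∈ derSub k A, actF y.ofConv v = 0 := by
  let S : Submodule k (Module.End k V) := (derSub k A).map (convAction k A V).toLinearMap
  let 𝔤 : LieSubalgebra k (Module.End k V) :=
    { S with
      lie_mem' := by
        rintro _ _ ⟨y, hy, rfl⟩ ⟨z, hz, rfl⟩
        refine ⟨y * z - z * y, commutator_mem_derSub hy hz, ?_⟩
        simp [Ring.lie_def, map_sub, map_mul] }
  haveI : LieModule.IsNilpotent 𝔤 V := by
    refine (LieModule.isNilpotent_iff_forall (R := k)).mpr ?_
    rintro ⟨_, y, hy, rfl⟩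
    exact h y hy
  haveI := LieModule.nontrivial_max_triv_of_isNilpotent k 𝔤 V
  obtain ⟨v, hv⟩ := exists_ne (0 : LieModule.maxTrivSubmodule k 𝔤 V)
  refine ⟨v, fun h0 => hv (Subtype.ext h0), fun y hy => ?_⟩
  exact (LieModule.mem_maxTrivSubmodule k 𝔤 V _).mp v.2 ⟨convAction k A V y, y, hy, rfl⟩

variable [IsAlgClosed k] [Algebra.FiniteType k A] (p : ℕ) [Fact p.Prime] [CharP k p]

omit [Algebra.FiniteType k A] in
/-- Functionals turn `p`-th powers of tensors into `p`-th powers. -/
theorem slice_pow_mem [CharP A p] (φ : A →ₗ[k] k) (z : A ⊗[k] A) :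
    slice φ (z ^ p) ∈ pPow k A p := by
  haveI : Nontrivial (A ⊗[k] A) :=
    (Algebra.TensorProduct.lift (Bialgebra.counitAlgHom k A) (Bialgebra.counitAlgHom k A)
      fun _ _ => Commute.all _ _).toRingHom.domain_nontrivial
  haveI : CharP (A ⊗[k] A) p := charP_of_algebra (k := k) p
  induction z using TensorProduct.induction_on with
  | zero => rw [zero_pow (Fact.out : p.Prime).ne_zero, map_zero]; exact zero_mem _
  | tmul a b =>
    rw [Algebra.TensorProduct.tmul_pow, slice_tmul]
    exact Subalgebra.smul_mem _ ((mem_pPow p).mpr ⟨a, rfl⟩) _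
  | add x y hx hy => rw [add_pow_char x y p, map_add]; exact add_mem hx hy

/-- **The Frobenius step.** -/
theorem isUnipotent_of_frobenius [CharP A p] (hder : ∀ y ∈ derSub k A, IsNilpotent y)
    {C : Type u} [CommRing C] [HopfAlgebra k C] (π : A →ₐc[k] C) (hπ : Function.Surjective π)
    (hker : ∀ a, π a = 0 ↔ a ^ p = 0) (hC : HopfRep.IsUnipotent k C) : HopfRep.IsUnipotent k A := by
  classical
  intro V _ _ cV hfin hnt hbot
  haveI := hfin
  haveI := hnt
  let W : Submodule k V :=
    { carrier := {v | ∀ f : V →ₗ[k] k, coefFun (C := A) f v ∈ pPow k A p}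
      add_mem' := fun {a b} ha hb f => by rw [map_add]; exact add_mem (ha f) (hb f)
      zero_mem' := fun f => by rw [map_zero]; exact zero_mem _
      smul_mem' := fun c a ha f => by rw [map_smul]; exact Subalgebra.smul_mem _ (ha f) c }
  have hW : HopfRep.IsSubcomod (k := k) (A := A) W := by
    rw [isSubcomod_iff_actF]
    intro φ v hv f
    obtain ⟨d, hd⟩ := hv f
    rw [comodHom_actF (isComodHom_coefFun f), ← hd, actF_apply,
      show HopfRep.Comod.coact (k := k) (A := A) (d ^ p) = Bialgebra.comulAlgHom k A (d ^ p) from rfl, map_pow]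
    exact slice_pow_mem p φ _
  obtain ⟨v, hv0, hv⟩ := exists_killed (A := A) (V := V) fun y hy => (hder y hy).map _
  have hvW : v ∈ W := fun f => mem_pPow_of_killed p fun L => by
    show actF L.1 (coefFun (C := A) f v) = 0
    rw [← comodHom_actF (isComodHom_coefFun f), hv (toConv L.1) L.2, map_zero]
  haveI : Nontrivial W := ⟨⟨⟨v, hvW⟩, 0, fun h => hv0 (congrArg Subtype.val h)⟩⟩
  letI cW : HopfRep.Comod k A W := ComodSub.Comod.restr cV W hW
  have hsub : ∀ w : W, (W.subtype.rTensor A) (cW.coact w) = cV.coact (w : V) := fun w =>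
    ComodSub.restr_coact_coe cV W hW w
  let b := Module.finBasis k W
  let M := matrixOf (A := A) b
  have hMp : ∀ i j, M i j ∈ pPow k A p := by
    intro i j
    obtain ⟨f, hf⟩ := (b.coord i).exists_extend
    have h : M i j = coefFun (C := A) f ((b j : W) : V) := by
      rw [coefFun_apply, ← hsub, ← LinearMap.comp_apply, ← LinearMap.rTensor_comp, hf]
      rfl
    rw [h]
    exact (b j : W).2 f
  choose β hβ using hMp
  have hM : IsComodMatrix k M := isComodMatrix_matrixOf b
  haveI : Nontrivial (A ⊗[k] A) :=
    (Algebra.TensorProduct.lift (Bialgebra.counitAlgHom k A) (Bialgebra.counitAlgHom k A)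
      fun _ _ => Commute.all _ _).toRingHom.domain_nontrivial
  haveI : CharP (A ⊗[k] A) p := charP_of_algebra (k := k) p
  let N : Fin (Module.finrank k W) → Fin (Module.finrank k W) → C := fun i j => π (β i j)
  have hN : IsComodMatrix k N := by
    refine ⟨fun i j => ?_, fun i j => ?_⟩
    · have hz : (Coalgebra.comul (R := k) (β i j) - ∑ l, β i l ⊗ₜ[k] β l j) ^ p ^ 1 = 0 := by
        rw [pow_one, sub_pow_char, sum_pow_char, ← Bialgebra.comulAlgHom_apply (R := k), ← map_pow, hβ,
          Bialgebra.comulAlgHom_apply, hM.comul, sub_eq_zero]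
        simp only [Algebra.TensorProduct.tmul_pow, hβ]
      have h := map_eq_zero_of_pow p (π : A →ₐ[k] C) hπ 1 (fun a => by rw [pow_one]; exact hker a) hz
      rw [map_sub, sub_eq_zero, map_sum] at h
      refine (CoalgHomClass.map_comp_comul_apply π (β i j)).symm.trans ?_
      exact h.trans (Finset.sum_congr rfl fun l _ => Algebra.TensorProduct.map_tmul _ _ _ _)
    · refine (CoalgHomClass.counit_comp_apply π (β i j)).trans ?_
      have h2 : Coalgebra.counit (R := k) (β i j) ^ p = if i = j then 1 else 0 := by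
        rw [← Bialgebra.counit_pow, hβ, hM.counit]
      refine frobenius_inj k p ?_
      rw [frobenius_def, frobenius_def, h2]
      split <;> simp [(Fact.out : p.Prime).ne_zero]
  letI cN : HopfRep.Comod k C (Fin (Module.finrank k W) → k) := ofMatrix N hN
  haveI : Nontrivial (Fin (Module.finrank k W) → k) := b.equivFun.symm.toEquiv.nontrivial
  obtain ⟨u, hu, hu0⟩ := Submodule.exists_mem_ne_zero_of_ne_bot
    (@hC (Fin (Module.finrank k W) → k) _ _ cN inferInstance inferInstance)
  have hu' : ∀ x, orbit k N u x = u x • (1 : C) := by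
    have := (lTensor_ofMatrix_coact_eq_iff N hN u LinearMap.id 1).mp (by rw [LinearMap.lTensor_id]; exact hu)
    simpa using this
  have horb : ∀ x, orbit k M (fun t => u t ^ p) x = (u x ^ p) • (1 : A) := by
    intro x
    have h1 : π ((∑ t, u t • β x t) - u x • (1 : A)) = 0 := by
      rw [map_sub, map_sum, sub_eq_zero, map_smul, map_one]
      simp only [map_smul]
      exact hu' x
    have h2 := (hker _).mp h1
    rw [sub_pow_char, sum_pow_char, sub_eq_zero, smul_pow, one_pow] at h2
    rw [← h2, orbit]
    exact Finset.sum_congr rfl fun t _ => by rw [smul_pow, hβ]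
  let w : W := b.equivFun.symm fun t => u t ^ p
  have hrepr : ∀ t, b.repr w t = u t ^ p := fun t =>
    congrFun (b.equivFun.apply_symm_apply fun t => u t ^ p) t
  have hw : cW.coact w = w ⊗ₜ[k] (1 : A) := by
    rw [coact_eq_orbit b w]
    conv_rhs => rw [← b.sum_repr w, TensorProduct.sum_tmul]
    refine Finset.sum_congr rfl fun x _ => ?_
    rw [TensorProduct.smul_tmul, show (⇑(b.repr w)) = (fun t => u t ^ p) from funext hrepr]
    exact congrArg _ (horb x)
  have hwV : (w : V) ∈ HopfRep.fixedPts k A V := by
    show cV.coact (w : V) = _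
    rw [← hsub, hw]
    rfl
  rw [hbot, Submodule.mem_bot] at hwV
  apply hu0
  funext t
  have := hrepr t
  rw [show w = 0 from Subtype.ext hwV, map_zero, Finsupp.coe_zero, Pi.zero_apply] at this
  exact eq_zero_of_pow_eq_zero this.symm

end Groth.Agent.SGAUnipP20
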