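import Groth.Agent.GrpSchLib.HeightOnePoint
import Mathlib.FieldTheory.IsAlgClosed.Basic
import Mathlib.FieldTheory.Separable
import Mathlib.Algebra.CharP.Lemmas

/-!
A group without `μ_p` over an algebraically closed field of characteristic `p` has a `p`-nilpotent Lie algebra.
-/

universe u

open TensorProduct WithConv Polynomial

namespace Groth.Agent.SGAUnipP20

variable (k A : Type u) [Field k] [CommRing A] [HopfAlgebra k A]

/-- Derivations at the counit inside the dual algebra. -/
noncomputable def derSub : Submodule k (CartDual.D k A) where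
  carrier := {y | ∀ a b, y.ofConv (a * b) =
    Coalgebra.counit (R := k) a * y.ofConv b + Coalgebra.counit (R := k) b * y.ofConv a}
  add_mem' {y z} hy hz a b := by
    simp only [WithConv.ofConv_add, LinearMap.add_apply, hy a b, hz a b]
    ring
  zero_mem' a b := by simp
  smul_mem' c y hy a b := by
    simp only [WithConv.ofConv_smul, LinearMap.smul_apply, hy a b, smul_eq_mul]
    ring

variable {k A}

theorem mem_derSub {y : CartDual.D k A} : y ∈ derSub k A ↔ ∀ a b, y.ofConv (a * b) =
    Coalgebra.counit (R := k) a * y.ofConv b + Coalgebra.counit (R := k) b * y.ofConv a := Iff.rfl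

instance finite_derSub [Algebra.FiniteType k A] : Module.Finite k (derSub k A) := by
  obtain ⟨s, hs⟩ := Algebra.FiniteType.out (R := k) (A := A)
  let ev : derSub k A →ₗ[k] (s → k) :=
    { toFun := fun y a => (y : CartDual.D k A).ofConv (a : A)
      map_add' := fun y z => funext fun a => rfl
      map_smul' := fun c y => funext fun a => rfl }
  refine Module.Finite.of_injective ev fun y z h => ?_
  rw [← sub_eq_zero]
  have h0 : ∀ a ∈ s, ((y - z : derSub k A) : CartDual.D k A).ofConv a = 0 := fun a ha => by
    have h1 : (y : CartDual.D k A).ofConv a = (z : CartDual.D k A).ofConv a := congrFun h ⟨a, ha⟩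
    simp [h1]
  generalize y - z = w at h0 ⊢
  refine Subtype.ext (WithConv.ofConv_injective (LinearMap.ext fun a => ?_))
  have ha : a ∈ Algebra.adjoin k (↑s : Set A) := hs ▸ trivial
  induction ha using Algebra.adjoin_induction with
  | mem x hx => exact h0 x hx
  | algebraMap r =>
    rw [Algebra.algebraMap_eq_smul_one, map_smul, GrpSchLib.deriv_apply_one w.2, smul_zero]
    rfl
  | add x y _ _ hx hy => simp only [map_add, hx, hy]
  | mul x y _ _ hx hy =>
    rw [w.2, hx, hy]
    simp

variable (p : ℕ) [Fact p.Prime] [CharP k p]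

theorem pow_mem_derSub {y : CartDual.D k A} (hy : y ∈ derSub k A) : y ^ p ∈ derSub k A :=
  GrpSchLib.deriv_pow_char p hy

theorem pow_pow_mem_derSub {y : CartDual.D k A} (hy : y ∈ derSub k A) : ∀ i, y ^ p ^ i ∈ derSub k A
  | 0 => by simpa using hy
  | i + 1 => by rw [pow_succ, pow_mul]; exact pow_mem_derSub p (pow_pow_mem_derSub hy i)

omit [Fact p.Prime] in
/-- The polynomials giving the coordinates of a fixed point of the `p`-operation. -/
noncomputable def coordPoly (c : ℕ → k) : ℕ → k[X]
  | 0 => C (c 0) * X
  | i + 1 => coordPoly c i ^ p + C (c (i + 1)) * X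

theorem one_le_natDegree_coordPoly (c : ℕ → k) :
    ∀ i, (∃ j ≤ i, c j ≠ 0) → 1 ≤ (coordPoly p c i).natDegree
  | 0, ⟨j, hj, hc⟩ => by
    obtain rfl := Nat.le_zero.mp hj
    rw [coordPoly, natDegree_C_mul_X _ hc]
  | i + 1, h => by
    rw [coordPoly]
    by_cases hi : ∃ j ≤ i, c j ≠ 0
    · have ih := one_le_natDegree_coordPoly c i hi
      have h2 : (C (c (i + 1)) * X).natDegree < (coordPoly p c i ^ p).natDegree := by
        refine lt_of_le_of_lt (natDegree_C_mul_X_pow_le (c (i + 1)) 1 |> (by simpa using ·)) ?_
        rw [natDegree_pow]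
        have := (Fact.out : p.Prime).two_le
        nlinarith
      rw [natDegree_add_eq_left_of_natDegree_lt h2, natDegree_pow]
      have := (Fact.out : p.Prime).two_le
      nlinarith
    · push Not at hi
      obtain ⟨j, hj, hc⟩ := h
      obtain rfl : j = i + 1 := by
        by_contra hne
        exact hc (hi j (by omega))
      have hz : ∀ m ≤ i, coordPoly p c m = 0 := by
        intro m
        induction m with
        | zero => intro _; rw [coordPoly, hi 0 (Nat.zero_le _), map_zero, zero_mul]
        | succ m ih =>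
          intro hm
          rw [coordPoly, ih (by omega), hi _ hm, map_zero, zero_mul, zero_pow (Fact.out : p.Prime).ne_zero, add_zero]
      rw [hz i le_rfl, zero_pow (Fact.out : p.Prime).ne_zero, zero_add, natDegree_C_mul_X _ hc]

/-- A semilinear companion system has a nonzero fixed vector. -/
theorem exists_fixed_coords [IsAlgClosed k] (c : ℕ → k) (m : ℕ) (hc : ∃ j ≤ m, c j ≠ 0) :
    ∃ d : ℕ → k, d m ≠ 0 ∧ d 0 = c 0 * d m ^ p ∧ ∀ i, d (i + 1) = d i ^ p + c (i + 1) * d m ^ p := by
  classical
  have hp : p.Prime := Fact.out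
  let P := coordPoly p c m
  let Q : k[X] := P ^ p - X
  have hdeg : 2 ≤ Q.natDegree := by
    have h1 : 1 ≤ P.natDegree := one_le_natDegree_coordPoly p c m hc
    have h2 : (X : k[X]).natDegree < (P ^ p).natDegree := by
      rw [natDegree_X, natDegree_pow]
      have := hp.two_le
      nlinarith
    show 2 ≤ (P ^ p - X).natDegree
    rw [natDegree_sub_eq_left_of_natDegree_lt h2, natDegree_pow]
    have := hp.two_le
    nlinarith
  have hsep : Q.Separable := by
    rw [separable_def, show derivative Q = -1 by
      show derivative (P ^ p - X) = -1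
      rw [derivative_sub, derivative_pow, CharP.cast_eq_zero, map_zero, zero_mul, zero_mul, derivative_X, zero_sub]]
    exact isCoprime_one_right.neg_right
  have hcard : 2 ≤ Q.roots.card := by
    rwa [← (IsAlgClosed.splits Q).natDegree_eq_card_roots]
  obtain ⟨t, ht, ht0⟩ : ∃ t ∈ Q.roots, t ≠ 0 := by
    by_contra hcon
    push Not at hcon
    have hle : Q.roots ≤ {0} := (Multiset.le_iff_subset (nodup_roots hsep)).mpr fun t ht => by simp [hcon t ht]
    have := Multiset.card_le_card hle
    simp at this
    omega
  have hev : (P.eval t) ^ p = t := by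
    have := (mem_roots'.mp ht).2
    simpa [Q, IsRoot, sub_eq_zero] using this
  refine ⟨fun i => (coordPoly p c i).eval t, ?_, ?_, fun i => ?_⟩
  · intro h0
    refine ht0 (hev.symm.trans ?_)
    rw [show P.eval t = 0 from h0, zero_pow hp.ne_zero]
  · show (C (c 0) * X).eval t = c 0 * P.eval t ^ p
    rw [hev, eval_mul, eval_C, eval_X]
  · show (coordPoly p c i ^ p + C (c (i + 1)) * X).eval t = (coordPoly p c i).eval t ^ p + c (i + 1) * P.eval t ^ p
    rw [hev, eval_add, eval_pow, eval_mul, eval_C, eval_X]

/-- Over an algebraically closed field, a derivation which is not `p`-nilpotent yields a toral one. -/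
theorem exists_toral [IsAlgClosed k] [Algebra.FiniteType k A] {v : CartDual.D k A} (hv : v ∈ derSub k A)
    (hnil : ¬ IsNilpotent v) : ∃ y ∈ derSub k A, y ≠ 0 ∧ y ^ p = y := by
  classical
  have hp : p.Prime := Fact.out
  let u : ℕ → CartDual.D k A := fun i => v ^ p ^ i
  have hu : ∀ i, u i ∈ derSub k A := pow_pow_mem_derSub p hv
  have hus : ∀ i, u i ^ p = u (i + 1) := fun i => by simp only [u, pow_succ, ← pow_mul]
  have hex : ∃ m, u m ∈ Submodule.span k (u '' Set.Iio m) := by
    by_contra hcon
    push Not at hcon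
    let w : Fin (Module.finrank k (derSub k A) + 1) → derSub k A := fun i => ⟨u i, hu i⟩
    have hli : ∀ n, LinearIndependent k fun i : Fin n => u i := by
      intro n
      induction n with
      | zero => exact linearIndependent_empty_type
      | succ n ih =>
        rw [linearIndependent_finSucc']
        refine ⟨ih, fun hmem => hcon n ?_⟩
        refine Submodule.span_mono ?_ hmem
        rintro _ ⟨i, rfl⟩
        exact ⟨i, i.2, rfl⟩
    have := (LinearIndependent.of_comp (derSub k A).subtype (v := w) (hli _)).fintype_card_le_finrank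
    simp at this
  let m := Nat.find hex
  have hm : u m ∈ Submodule.span k (u '' Set.Iio m) := Nat.find_spec hex
  have hli : ∀ n ≤ m, LinearIndependent k fun i : Fin n => u i := by
    intro n
    induction n with
    | zero => exact fun _ => linearIndependent_empty_type
    | succ n ih =>
      intro hn
      rw [linearIndependent_finSucc']
      refine ⟨ih (by omega), fun hmem => Nat.find_min hex (show n < m by omega) ?_⟩
      refine Submodule.span_mono ?_ hmem
      rintro _ ⟨i, rfl⟩
      exact ⟨i, i.2, rfl⟩
  obtain ⟨cf, hcf⟩ : ∃ c : Fin m → k, ∑ i, c i • u i = u m := by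
    rw [← Submodule.mem_span_range_iff_exists_fun]
    refine Submodule.span_mono ?_ hm
    rintro _ ⟨i, hi, rfl⟩
    exact ⟨⟨i, hi⟩, rfl⟩
  let c : ℕ → k := fun i => if h : i < m then cf ⟨i, h⟩ else 0
  have hnz : ∃ j < m, c j ≠ 0 := by
    by_contra hcon
    push Not at hcon
    refine hnil ⟨p ^ m, ?_⟩
    show u m = 0
    rw [← hcf]
    exact Finset.sum_eq_zero fun i _ => by
      have := hcon i i.2
      simp only [c, i.2, dif_pos] at this
      rw [this, zero_smul]
  obtain ⟨j, hj, hcj⟩ := hnz
  obtain ⟨n, hn⟩ : ∃ n, m = n + 1 := ⟨m - 1, by omega⟩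
  obtain ⟨d, hdn, hd0, hds⟩ := exists_fixed_coords p c n ⟨j, by omega, hcj⟩
  let x : CartDual.D k A := ∑ i ∈ Finset.range m, d i • u i
  have hxpow : x ^ p = ∑ i ∈ Finset.range m, d i ^ p • u (i + 1) := by
    have hx : x = aeval v (∑ i ∈ Finset.range m, monomial (p ^ i) (d i)) := by
      simp only [x, map_sum, aeval_monomial, u, Algebra.smul_def]
    rw [hx, ← map_pow, sum_pow_char, map_sum]
    refine Finset.sum_congr rfl fun i _ => ?_
    rw [monomial_pow, aeval_monomial, Algebra.smul_def]
    simp only [u, pow_succ]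
  have hrel : u (n + 1) = ∑ i ∈ Finset.range m, c i • u i := by
    rw [← hn, ← hcf, Finset.sum_range]
    exact Finset.sum_congr rfl fun i _ => by simp [c]
  refine ⟨x, Submodule.sum_mem _ fun i _ => Submodule.smul_mem _ _ (hu i), fun hx0 => ?_, ?_⟩
  · have := Fintype.linearIndependent_iff.mp (hli m le_rfl) (fun i => d i)
      (by rw [← hx0]; simp only [x, Finset.sum_range]) ⟨n, by omega⟩
    exact hdn this
  · rw [hxpow]
    simp only [x, hn] at hrel ⊢
    rw [Finset.sum_range_succ, hrel, Finset.smul_sum, Finset.sum_range_succ' (fun i => (d n ^ p) • c i • u i),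
      Finset.sum_range_succ' (fun i => d i • u i), hd0, ← add_assoc, ← Finset.sum_add_distrib]
    congr 1
    · refine Finset.sum_congr rfl fun i _ => ?_
      rw [hds, add_smul, smul_smul, mul_comm (d n ^ p)]
    · rw [smul_smul, mul_comm]

/-- A toral derivation gives a closed `μ_p`. -/
theorem exists_mu_of_toral {y : CartDual.D k A} (hy : y ∈ derSub k A) (hy0 : y ≠ 0) (hyp : y ^ p = y) :
    ∃ φ : A →ₐc[k] MonoidAlgebra k (Multiplicative (ZMod p)), Function.Surjective φ := by
  obtain ⟨a, ha⟩ : ∃ a, y.ofConv a ≠ 0 := by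
    by_contra hcon
    push Not at hcon
    exact hy0 (WithConv.ofConv_injective (LinearMap.ext fun a => by simp [hcon a]))
  obtain ⟨w, t, hw, ht0, ht1, hwp⟩ := GrpSchLib.exists_deriv_muP (k := k) p
  haveI : Module.Finite k (MonoidAlgebra k (Multiplicative (ZMod p))) :=
    Module.Finite.of_basis (MonoidAlgebra.basis (Multiplicative (ZMod p)) k)
  refine GrpSchLib.exists_bialgHom_of_deriv p (MonoidAlgebra k (Multiplicative (ZMod p)))
    (by rw [Module.finrank_eq_card_basis (MonoidAlgebra.basis (Multiplicative (ZMod p)) k)]; simp) 1 hw ht0 ht1 hwp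
    (x₀ := (y.ofConv a)⁻¹ • (a - algebraMap k A (Coalgebra.counit (R := k) a))) hy ?_ ?_ (by rw [one_smul, hyp])
  · rw [map_smul, map_sub, Bialgebra.counit_algebraMap, sub_self, smul_zero]
  · rw [map_smul, map_sub, Algebra.algebraMap_eq_smul_one, map_smul, GrpSchLib.deriv_apply_one hy, smul_zero,
      sub_zero, smul_eq_mul, inv_mul_cancel₀ ha]

/-- Without a closed `μ_p` every derivation at the counit is nilpotent in the dual algebra. -/
theorem isNilpotent_of_no_mu [IsAlgClosed k] [Algebra.FiniteType k A]
    (hmu : ¬ ∃ φ : A →ₐc[k] MonoidAlgebra k (Multiplicative (ZMod p)), Function.Surjective φ)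
    {v : CartDual.D k A} (hv : v ∈ derSub k A) : IsNilpotent v := by
  by_contra hnil
  obtain ⟨y, hy, hy0, hyp⟩ := exists_toral p hv hnil
  exact hmu (exists_mu_of_toral p hy hy0 hyp)

end Groth.Agent.SGAUnipP20
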